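import Groth.Agent.W7Root.Basic

/-!
Roots descend along a finite etale cover of a normal scheme in characteristic `p`.
-/

set_option autoImplicit false
set_option backward.isDefEq.respectTransparency false
set_option backward.isDefEq.respectTransparency.types false
set_option linter.style.haveILetI false
set_option maxHeartbeats 2000000

universe u

open CategoryTheory CategoryTheory.Limits AlgebraicGeometry TopologicalSpace Opposite
open Groth.Agent.QC (res resO res_res res_self res_smul resO_resO resO_self app_res section_eq_of_locally abSheaf)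
open TMul (IsGen pw pw_smul res_pw isGen_pw)

noncomputable section

namespace Groth.Agent.W7Root

/-- A separable element with its `p`-th power in the base field is in the base field. -/
theorem mem_range_of_pow {K L : Type u} [Field K] [Field L] [Algebra K L] [Algebra.IsSeparable K L]
    (p : ℕ) [Fact p.Prime] [CharP K p] (v : L) (k : K) (h : v ^ p = algebraMap K L k) :
    ∃ w : K, w ^ p = k := by
  haveI : ExpChar K p := ExpChar.prime Fact.out
  have h1 := IntermediateField.adjoin_eq_adjoin_pow_expChar_of_isSeparable' K L ({v} : Set L) p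
  simp only [Set.image_singleton, h] at h1
  have h2 : v ∈ (⊥ : IntermediateField K L) := by
    have hbot : IntermediateField.adjoin K ({algebraMap K L k} : Set L) = ⊥ :=
      IntermediateField.adjoin_simple_eq_bot_iff.2 (IntermediateField.algebraMap_mem _ k)
    rw [← hbot, ← h1]
    exact IntermediateField.mem_adjoin_simple_self K v
  obtain ⟨w, rfl⟩ := IntermediateField.mem_bot.1 h2
  exact ⟨w, (algebraMap K L).injective (by rw [map_pow, h])⟩

variable {X X' : Scheme.{u}} [IsIntegral X] (f : X' ⟶ X) [IsFinite f] [Etale f] [Nonempty X']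
  (p : ℕ) [Fact p.Prime] [CharP (Γ(X, ⊤) : Type u) p]

omit [IsFinite f] [Etale f] [Nonempty X'] in
lemma charP_sections {R : Type u} [CommRing R] [Nontrivial R] (φ : Γ(X, ⊤) →+* R) : CharP R p := by
  haveI : ExpChar Γ(X, ⊤) p := ExpChar.prime Fact.out
  refine (CharP.charP_iff_prime_eq_zero Fact.out).2 ?_
  rw [← map_natCast φ, CharP.cast_eq_zero, map_zero]

/-- Roots on the cover give roots near every point. -/
theorem exists_local_root (hnorm : Pi1.IsNormalScheme X) {U : X.Opens} {x : X} (hx : x ∈ U) (u : Γ(X, U))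
    (v : Γ(X', f ⁻¹ᵁ U)) (hv : v ^ p = f.app U u) :
    ∃ (W : X.Opens) (hW : W ≤ U), x ∈ W ∧ ∃ w : Γ(X, W), w ^ p = resO X hW u := by
  have hη : genericPoint X ∈ U := (genericPoint_specializes x).mem_open U.2 hx
  obtain ⟨x', hx'⟩ : ∃ x', f x' = genericPoint X := by
    haveI : LocallyOfFinitePresentation f := inferInstance
    haveI : Flat f := inferInstance
    have hcl : IsClosed (Set.range f) := f.isClosedMap.isClosed_range
    have hop : IsOpen (Set.range f) := f.isOpenMap.isOpen_range
    obtain ⟨y⟩ := ‹Nonempty X'›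
    exact Set.eq_univ_iff_forall.1
      (IsClopen.eq_univ ⟨hcl, hop⟩ ⟨f y, y, rfl⟩) (genericPoint X)
  have key : ∀ (η : X) (hU : η ∈ U), f x' = η → ∃ k : X.residueField η, k ^ p = X.evaluation U η hU u := by
    rintro η hU rfl
    letI : Algebra (X.residueField (f x')) (X'.residueField x') := (f.residueFieldMap x').hom.toAlgebra
    haveI : CharP (X.residueField (f x')) p :=
      charP_sections p ((X.evaluation ⊤ (f x') trivial).hom)
    refine mem_range_of_pow p ((X'.evaluation (f ⁻¹ᵁ U) x' hU).hom v) _ ?_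
    rw [← map_pow, hv]
    exact (Scheme.evaluation_naturality_apply f x' hU u).symm
  obtain ⟨k, hk⟩ := key _ hη hx'
  obtain ⟨q, rfl⟩ := IsLocalRing.residue_surjective (R := X.functionField) k
  have hq : q ^ p = (X.presheaf.germ U (genericPoint X) hη).hom u := by
    refine (IsLocalRing.residue X.functionField).injective ?_
    rw [map_pow]
    exact hk
  haveI := (hnorm x).1
  haveI := (hnorm x).2
  haveI : Nonempty U := ⟨⟨x, hx⟩⟩
  have halg : algebraMap (X.presheaf.stalk x) X.functionField ((X.presheaf.germ U x hx).hom u) =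
      (X.presheaf.germ U (genericPoint X) hη).hom u := X.algebraMap_germ_eq_germToFunctionField hx u
  obtain ⟨y, hy⟩ := IsIntegrallyClosed.exists_algebraMap_eq_of_isIntegral_pow
    (R := X.presheaf.stalk x) (K := X.functionField) (x := q) (Fact.out : p.Prime).pos
    (by rw [hq, ← halg]; exact isIntegral_algebraMap)
  obtain ⟨W₀, hxW, w, rfl⟩ := X.presheaf.exists_germ_eq (x := x) y
  refine ⟨W₀ ⊓ U, inf_le_right, ⟨hxW, hx⟩, resO X inf_le_left w, ?_⟩
  refine germ_injective_of_isIntegral X x (show x ∈ W₀ ⊓ U from ⟨hxW, hx⟩) ?_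
  rw [map_pow]
  have e1 : ∀ {A : X.Opens} (h : W₀ ⊓ U ≤ A) (c : Γ(X, A)),
      X.presheaf.germ (W₀ ⊓ U) x ⟨hxW, hx⟩ (resO X h c) = X.presheaf.germ A x (h ⟨hxW, hx⟩) c := fun h c =>
    TopCat.Presheaf.germ_res_apply X.presheaf (homOfLE h) x _ c
  rw [e1 inf_le_left, e1 inf_le_right]
  refine IsFractionRing.injective (X.presheaf.stalk x) X.functionField ?_
  rw [map_pow, hy, hq]
  exact halg.symm

/-- **No trivialising cover.** -/
theorem nonempty_iso_of_cover (hnorm : Pi1.IsNormalScheme X) {M : X.Modules} (hM : PicF.IsInvertible M)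
    (φ : CohB1.tensorPow M p ≅ Coh.structureModule X)
    (ψ : (Scheme.Modules.pullback f).obj M ≅ Coh.structureModule X')
    (hroot : ∀ u : Γ(X', ⊤), IsUnit u → ∃ v : Γ(X', ⊤), v ^ p = u) :
    Nonempty (M ≅ Coh.structureModule X) := by
  let s : Γ(CohB1.tensorPow M p, (⊤ : X.Opens)) := φ.inv.app ⊤ (1 : Γ(X, ⊤))
  have hs : IsGen s := W7See.isGen_app φ.symm isGen_one
  have hg := W7See.isGen_app ψ.symm (isGen_one (X := X'))
  -- local roots
  have hloc : ∀ x : X, ∃ (W : X.Opens), x ∈ W ∧ ∃ t : Γ(M, W), pw t p = res _ le_top s ∧ IsGen t := by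
    intro x
    obtain ⟨U, e, hx, he⟩ := TMul.exists_isGen hM x
    obtain ⟨u, hu, hu1, v, hv⟩ := exists_root_chart f hM hs hg hroot he
    obtain ⟨W, hW, hxW, w, hw⟩ := exists_local_root f p hnorm hx u v hv
    refine ⟨W, hxW, w • res M hW e, ?_, isGen_unit_smul (he.res hW) ?_⟩
    · rw [pw_smul, hw, ← res_pw hW, ← res_smul _ hW, ← hu, res_res]
    · exact (isUnit_pow_iff (Fact.out : p.Prime).ne_zero).1 (hw ▸ hu1.map (resO X hW))
  choose W hxW t ht htg using hloc
  -- uniqueness
  have huniq : ∀ (O : X.Opens) (a b : Γ(M, O)), pw a p = pw b p → a = b := by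
    intro O a b hab
    refine section_eq_of_locally fun y hy => ?_
    obtain ⟨V, e, hyV, he⟩ := TMul.exists_isGen hM y
    refine ⟨O ⊓ V, inf_le_left, ⟨hy, hyV⟩, ?_⟩
    obtain ⟨c, hc⟩ := exists_coeff he inf_le_right (res M (inf_le_left : O ⊓ V ≤ O) a)
    obtain ⟨d, hd⟩ := exists_coeff he inf_le_right (res M (inf_le_left : O ⊓ V ≤ O) b)
    have h1 : c ^ p • pw (res M (inf_le_right : O ⊓ V ≤ V) e) p =
        d ^ p • pw (res M (inf_le_right : O ⊓ V ≤ V) e) p := by
      rw [← pw_smul, ← pw_smul, ← hc, ← hd, ← res_pw, ← res_pw, hab]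
    haveI : Nonempty (O ⊓ V : X.Opens) := ⟨⟨y, hy, hyV⟩⟩
    haveI : CharP Γ(X, O ⊓ V) p := charP_sections p (resO X le_top)
    rw [← res_pw (inf_le_right : O ⊓ V ≤ V)] at h1
    have h2 : c ^ p = d ^ p := ((isGen_pw he p) (O ⊓ V) inf_le_right).1 h1
    rw [hc, hd, pow_injective h2]
  obtain ⟨T, hT, -⟩ := TopCat.Sheaf.existsUnique_gluing' (abSheaf M) W ⊤ (fun x => homOfLE le_top)
    (fun y _ => Opens.mem_iSup.2 ⟨y, hxW y⟩) t (fun x x' => by
      change res M (inf_le_left : W x ⊓ W x' ≤ W x) (t x) = res M (inf_le_right : W x ⊓ W x' ≤ W x') (t x')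
      refine huniq _ _ _ ?_
      rw [← res_pw, ← res_pw, ht, ht, res_res, res_res])
  have hT' : ∀ x, res M (le_top : W x ≤ ⊤) T = t x := hT
  refine nonempty_iso_of_global (t := T) fun V _ => ⟨fun c d hcd => ?_, fun m => ?_⟩
  · refine X.sheaf.eq_of_locally_eq' (fun x : X => V ⊓ W x) V (fun x => homOfLE inf_le_left)
      (fun y hy => Opens.mem_iSup.2 ⟨y, hy, hxW y⟩) c d fun x => ?_
    refine (htg x (V ⊓ W x) inf_le_right).1 ?_
    have h := congrArg (res M (inf_le_left : V ⊓ W x ≤ V)) hcd
    change _ • res M _ (t x) = _ • res M _ (t x)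
    rw [← hT' x, res_res]
    simp only [res_smul, res_res] at h
    exact h
  · choose c hc using fun x => exists_coeff (htg x) (inf_le_right : V ⊓ W x ≤ W x) (res M inf_le_left m)
    obtain ⟨C, hC, -⟩ := X.sheaf.existsUnique_gluing' (fun x : X => V ⊓ W x) V (fun x => homOfLE inf_le_left)
      (fun y hy => Opens.mem_iSup.2 ⟨y, hy, hxW y⟩) c (fun x x' => by
        let O := (V ⊓ W x) ⊓ (V ⊓ W x')
        change resO X (inf_le_left : O ≤ V ⊓ W x) (c x) = resO X (inf_le_right : O ≤ V ⊓ W x') (c x')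
        refine (htg x O (inf_le_left.trans inf_le_right)).1 ?_
        change _ • res M _ (t x) = _ • res M _ (t x)
        have e1 := congrArg (res M (inf_le_left : O ≤ V ⊓ W x)) (hc x)
        have e2 := congrArg (res M (inf_le_right : O ≤ V ⊓ W x')) (hc x')
        rw [← hT', res_smul, res_res, res_res, res_res] at e1 e2
        rw [← hT' x, res_res, ← e1, ← e2])
    have hC' : ∀ x, resO X (inf_le_left : V ⊓ W x ≤ V) C = c x := hC
    refine ⟨C, section_eq_of_locally fun y hy => ⟨V ⊓ W y, inf_le_left, ⟨hy, hxW y⟩, ?_⟩⟩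
    rw [res_smul, hC', res_res, hc y, ← hT' y, res_res]

end Groth.Agent.W7Root
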