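import Groth.Agent.W7Root.Alg
import Groth.Agent.RelSpecUP.Basic
import Groth.Agent.FinFibImage.Main
import Groth.Agent.S14457

/-!
The cyclic cover and its properties.
-/

set_option autoImplicit false
set_option backward.isDefEq.respectTransparency false
set_option backward.isDefEq.respectTransparency.types false
set_option linter.style.haveILetI false
set_option maxHeartbeats 1000000

universe u

open CategoryTheory CategoryTheory.Limits AlgebraicGeometry TopologicalSpace Opposite
open Groth.Agent.QC (res resO res_res res_self res_smul resO_resO resO_self app_res section_eq_of_locally abSheaf)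
open TMul (IsGen pw pw_smul res_pw isGen_pw)

noncomputable section

namespace Groth.Agent.W7Root

variable {X : Scheme.{u}}

/-- Compatible generators on a cover give a global one. -/
theorem nonempty_iso_of_local_gens {M : X.Modules} {ι : Type u} (W : ι → X.Opens) (hW : ∀ x : X, ∃ i, x ∈ W i)
    (t : ∀ i, Γ(M, W i)) (ht : ∀ i, IsGen (t i))
    (hc : ∀ i j, res M (inf_le_left : W i ⊓ W j ≤ W i) (t i) = res M (inf_le_right : W i ⊓ W j ≤ W j) (t j)) :
    Nonempty (M ≅ Coh.structureModule X) := by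
  obtain ⟨T, hT, -⟩ := TopCat.Sheaf.existsUnique_gluing' (abSheaf M) W ⊤ (fun i => homOfLE le_top)
    (fun y _ => Opens.mem_iSup.2 (hW y)) t hc
  have hT' : ∀ i, res M (le_top : W i ≤ ⊤) T = t i := hT
  refine nonempty_iso_of_global (t := T) fun V _ => ⟨fun c d hcd => ?_, fun m => ?_⟩
  · refine X.sheaf.eq_of_locally_eq' (fun i => V ⊓ W i) V (fun i => homOfLE inf_le_left)
      (fun y hy => let ⟨i, hi⟩ := hW y; Opens.mem_iSup.2 ⟨i, hy, hi⟩) c d fun i => ?_
    refine (ht i (V ⊓ W i) inf_le_right).1 ?_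
    have h := congrArg (res M (inf_le_left : V ⊓ W i ≤ V)) hcd
    change _ • res M _ (t i) = _ • res M _ (t i)
    rw [← hT' i, res_res]
    simp only [res_smul, res_res] at h
    exact h
  · choose c hc' using fun i => exists_coeff (ht i) (inf_le_right : V ⊓ W i ≤ W i) (res M inf_le_left m)
    obtain ⟨C, hC, -⟩ := X.sheaf.existsUnique_gluing' (fun i => V ⊓ W i) V (fun i => homOfLE inf_le_left)
      (fun y hy => let ⟨i, hi⟩ := hW y; Opens.mem_iSup.2 ⟨i, hy, hi⟩) c (fun i j => by
        let O := (V ⊓ W i) ⊓ (V ⊓ W j)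
        change resO X (inf_le_left : O ≤ V ⊓ W i) (c i) = resO X (inf_le_right : O ≤ V ⊓ W j) (c j)
        refine (ht i O (inf_le_left.trans inf_le_right)).1 ?_
        change _ • res M _ (t i) = _ • res M _ (t i)
        have e1 := congrArg (res M (inf_le_left : O ≤ V ⊓ W i)) (hc' i)
        have e2 := congrArg (res M (inf_le_right : O ≤ V ⊓ W j)) (hc' j)
        rw [← hT', res_smul, res_res, res_res, res_res] at e1 e2
        rw [← hT' i, res_res, ← e1, ← e2])
    have hC' : ∀ i, resO X (inf_le_left : V ⊓ W i ≤ V) C = c i := hC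
    refine ⟨C, section_eq_of_locally fun y hy => ?_⟩
    obtain ⟨i, hi⟩ := hW y
    refine ⟨V ⊓ W i, inf_le_left, ⟨hy, hi⟩, ?_⟩
    rw [res_smul, hC', res_res, hc' i, ← hT' i, res_res]

variable [IsIntegral X] (D : RootData X)

namespace RootData

attribute [local irreducible] RootData.S RootData.basis

section Chart

variable {x : X} {V : X.Opens} (hV : V ≤ D.W x) (hη : genericPoint X ∈ V)

/-- The chart equation. -/
def eqn : Polynomial Γ(X, V) := Polynomial.X ^ D.d - Polynomial.C (resO X hV (D.vinv x))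

/-- The chart map. -/
def psi : AdjoinRoot (D.eqn hV) →+* D.sub V :=
  AdjoinRoot.lift (D.const V) (D.mkElem V (D.T x) fun _ hy => D.T_mem_S (hV hy)) (by
    rw [eqn, Polynomial.eval₂_sub, Polynomial.eval₂_X_pow, Polynomial.eval₂_C, sub_eq_zero]
    refine Subtype.ext (funext fun y => ?_)
    change D.T x ^ D.d = algebraMap X.functionField D.Ext (gη (generic_mem y.2) (resO X hV (D.vinv x)))
    rw [gη_res, D.T_pow_d x])

include hη in
lemma psi_mk_eval (q : Polynomial Γ(X, V)) :
    (D.psi hV (AdjoinRoot.mk (D.eqn hV) q)).1 ⟨genericPoint X, hη⟩ =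
      q.eval₂ ((algebraMap X.functionField D.Ext).comp (gη hη)) (D.T x) := by
  rw [psi, AdjoinRoot.lift_mk]
  exact Polynomial.hom_eval₂ q (D.const V)
    ((Pi.evalRingHom (fun _ : ↥V => D.Ext) ⟨genericPoint X, hη⟩).comp (D.sub V).subtype) _

include hη in
theorem psi_bijective : Function.Bijective (D.psi hV) := by
  haveI : Nontrivial Γ(X, V) := (gη hη).domain_nontrivial
  have hmonic : (D.eqn hV).Monic := Polynomial.monic_X_pow_sub_C _ D.hd.ne'
  have hdeg : (D.eqn hV).natDegree = D.d := Polynomial.natDegree_X_pow_sub_C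
  refine ⟨(injective_iff_map_eq_zero _).2 fun a ha => ?_, fun b => ?_⟩
  · obtain ⟨q, rfl⟩ := AdjoinRoot.mk_surjective a
    have hlt : (q %ₘ D.eqn hV).natDegree < D.d := by
      have := Polynomial.natDegree_modByMonic_lt q hmonic (fun h => by
        rw [h, Polynomial.natDegree_one] at hdeg; exact D.hd.ne hdeg)
      rwa [hdeg] at this
    have hmk : AdjoinRoot.mk (D.eqn hV) q = AdjoinRoot.mk (D.eqn hV) (q %ₘ D.eqn hV) := by
      rw [AdjoinRoot.mk_eq_mk, Polynomial.modByMonic_eq_sub_mul_div q, sub_sub_cancel]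
      exact dvd_mul_right _ _
    rw [hmk] at ha ⊢
    have h0 := D.psi_mk_eval hV hη (q %ₘ D.eqn hV)
    rw [ha, Polynomial.eval₂_eq_sum_range' _ hlt, ← Fin.sum_univ_eq_sum_range] at h0
    have hcoef : ∀ i : Fin D.d, (q %ₘ D.eqn hV).coeff i = 0 := fun i => by
      have h1 := congrArg (fun z => D.basis.repr z i) h0
      simp only [RingHom.comp_apply, ← Algebra.smul_def, repr_T_pow] at h1
      refine gη_injective hη ?_
      rw [map_zero]
      have h2 : D.basis.repr (0 : D.Ext) i = 0 := by simp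
      exact (mul_eq_zero.1 (h1.symm.trans h2)).resolve_right (pow_ne_zero _ (D.k_ne_zero x))
    rw [show q %ₘ D.eqn hV = 0 from Polynomial.ext fun j => ?_, map_zero]
    by_cases hj : j < D.d
    · simpa using hcoef ⟨j, hj⟩
    · rw [Polynomial.coeff_zero]
      exact Polynomial.coeff_eq_zero_of_natDegree_lt (lt_of_lt_of_le hlt (not_lt.1 hj))
  · have hmem : ∀ i : Fin D.d, ∃ c : Γ(X, V),
        gη hη c = D.basis.repr (b.1 ⟨_, hη⟩) i * (D.k x ^ (i : ℕ))⁻¹ := fun i =>
      exists_section hη fun y hy => (D.mem_S_iff_chart (hV hy) _).1 (b.2.1 ⟨y, hy⟩ ⟨_, hη⟩ ▸ b.2.2 ⟨y, hy⟩) i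
    choose c hc using hmem
    refine ⟨AdjoinRoot.mk (D.eqn hV) (∑ i : Fin D.d, Polynomial.monomial i (c i)), Subtype.ext (funext fun y => ?_)⟩
    rw [(D.psi hV _).2.1 y ⟨_, hη⟩, b.2.1 y ⟨_, hη⟩, D.psi_mk_eval hV hη, Polynomial.eval₂_finsetSum]
    conv_rhs => rw [D.eq_sum_T x (b.1 ⟨_, hη⟩)]
    refine Finset.sum_congr rfl fun i _ => ?_
    rw [Polynomial.eval₂_monomial, RingHom.comp_apply, hc, ← Algebra.smul_def]

include hη in
/-- The chart over `V` is the spectrum of the standard algebra. -/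
theorem exists_chart_iso :
    ∃ e : Spec (D.psh.obj (op V)) ≅ Spec (CommRingCat.of (AdjoinRoot (D.eqn hV))),
      e.hom ≫ Spec.map (CommRingCat.ofHom (algebraMap Γ(X, V) (AdjoinRoot (D.eqn hV)))) =
        Spec.map (D.str.app (op V)) := by
  let φ : CommRingCat.of (AdjoinRoot (D.eqn hV)) ⟶ D.psh.obj (op V) := CommRingCat.ofHom (D.psi hV)
  haveI : IsIso φ := (ConcreteCategory.isIso_iff_bijective _).2 (D.psi_bijective hV hη)
  refine ⟨asIso (Spec.map φ), ?_⟩
  rw [asIso_hom, ← Spec.map_comp]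
  congr 1
  ext c
  change D.psi hV (algebraMap Γ(X, V) (AdjoinRoot (D.eqn hV)) c) = D.const V c
  rw [psi, AdjoinRoot.algebraMap_eq, AdjoinRoot.lift_of]

end Chart

/-- The cover. -/
abbrev cover : Scheme.{u} := D.alg.spec

/-- Its structure map. -/
abbrev proj : D.cover ⟶ X := D.alg.π

/-- Affine charts of the base. -/
theorem exists_affine_chart (y : X) : ∃ V : X.Opens, IsAffineOpen V ∧ y ∈ V ∧ V ≤ D.W y := by
  obtain ⟨V, hV, hy, hle⟩ := exists_isAffineOpen_mem_and_subset (X := X) (x := y) (U := D.W y) (D.mem_W y)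
  exact ⟨V, hV, hy, hle⟩

/-- A local property of the chart algebras holds for the cover. -/
theorem prop_proj (P : MorphismProperty Scheme.{u}) [IsZariskiLocalAtTarget P] [P.RespectsIso]
    (h : ∀ (x : X) (V : X.Opens) (hV : V ≤ D.W x), genericPoint X ∈ V →
      P (Spec.map (CommRingCat.ofHom (algebraMap Γ(X, V) (AdjoinRoot (D.eqn hV)))))) : P D.proj := by
  choose V hV hyV hle using D.exists_affine_chart
  let 𝒰 : X.OpenCover := Scheme.Cover.mkOfCovers X (fun y => Spec Γ(X, V y)) (fun y => (hV y).fromSpec)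
    (fun y => ⟨y, (hV y).range_fromSpec.ge (hyV y)⟩) (fun y => inferInstance)
  refine IsZariskiLocalAtTarget.of_openCover (P := P) 𝒰 fun y => ?_
  change P (pullback.snd D.alg.π (hV y).fromSpec)
  have hP := (RelSpecUP.isPullback_chart D.alg (V y) (hV y)).flip
  obtain ⟨e, he⟩ := D.exists_chart_iso (hle y) (generic_mem (hyV y))
  rw [← hP.isoPullback_inv_snd, P.cancel_left_of_respectsIso]
  change P (Spec.map (D.str.app (op (V y))))
  rw [← he, P.cancel_left_of_respectsIso]
  exact h _ _ (hle y) (generic_mem (hyV y))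

instance : IsFinite D.proj := D.prop_proj @IsFinite fun x V hV _ => by
  rw [IsFinite.SpecMap_iff]
  exact RingHom.finite_algebraMap.2
    ((AdjoinRoot.powerBasis' (Polynomial.monic_X_pow_sub_C (resO X hV (D.vinv x)) D.hd.ne')).finite)

instance : Flat D.proj := D.prop_proj @Flat fun x V hV _ => by
  rw [Flat.SpecMap_iff]
  haveI : Module.Free Γ(X, V) (AdjoinRoot (D.eqn hV)) :=
    Module.Free.of_basis (AdjoinRoot.powerBasis' (Polynomial.monic_X_pow_sub_C (resO X hV (D.vinv x)) D.hd.ne')).basis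
  exact RingHom.flat_algebraMap_iff.2 inferInstance

instance : LocallyOfFinitePresentation D.proj := D.prop_proj @LocallyOfFinitePresentation fun x V hV _ => by
  rw [LocallyOfFinitePresentation.SpecMap_iff]
  exact RingHom.finitePresentation_algebraMap.2 inferInstance

/-- Etale when the degree is invertible. -/
theorem etale_proj (hd : IsUnit ((D.d : ℕ) : (Γ(X, ⊤) : Type u))) : Etale D.proj :=
  D.prop_proj @Etale fun x V hV _ => by
    rw [HasRingHomProperty.Spec_iff (P := @Etale)]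
    refine RingHom.etale_algebraMap.2 ((Groth.Agent.S14457.result Γ(X, V) _ D.d D.hd).2 (Or.inr ?_))
    refine IsUnit.mul ?_ (((D.isUnit_v x).unit⁻¹).isUnit.map (resO X hV))
    rw [← map_natCast (resO X (le_top : V ≤ ⊤)) D.d]
    exact hd.map _

/-- The degree. -/
theorem finrank_proj (y : X) : D.proj.finrank y = D.d := by
  obtain ⟨V, hV, hyV, hle⟩ := D.exists_affine_chart y
  obtain ⟨p, hp⟩ : ∃ p, hV.fromSpec p = y := hV.range_fromSpec.ge hyV
  obtain ⟨e, he⟩ := D.exists_chart_iso hle (generic_mem hyV)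
  have hP := (RelSpecUP.isPullback_chart D.alg V hV).flip
  rw [← hp]
  refine (Scheme.Hom.finrank_of_isPullback _ _ _ _ hP p).symm.trans ?_
  change (Spec.map (D.str.app (op V))).finrank p = D.d
  let b := AdjoinRoot.powerBasis' (Polynomial.monic_X_pow_sub_C (resO X hle (D.vinv y)) D.hd.ne')
  haveI : Module.Finite Γ(X, V) (AdjoinRoot (D.eqn hle)) := b.finite
  haveI : Module.Free Γ(X, V) (AdjoinRoot (D.eqn hle)) := Module.Free.of_basis b.basis
  haveI : Flat (Spec.map (CommRingCat.ofHom (algebraMap Γ(X, V) (AdjoinRoot (D.eqn hle))))) :=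
    Flat.SpecMap_iff.2 (RingHom.flat_algebraMap_iff.2 inferInstance)
  haveI : IsFinite (Spec.map (CommRingCat.ofHom (algebraMap Γ(X, V) (AdjoinRoot (D.eqn hle))))) :=
    (IsFinite.SpecMap_iff _).2 (RingHom.finite_algebraMap.2 inferInstance)
  rw [← he, Scheme.Hom.finrank_comp_left_of_isIso]
  haveI : Nontrivial Γ(X, V) := (gη (generic_mem hyV)).domain_nontrivial
  refine (Scheme.Hom.finrank_SpecMap_algebraMap Γ(X, V) (AdjoinRoot (D.eqn hle)) p).trans ?_
  rw [Module.rankAtStalk_eq_finrank_of_free, Pi.natCast_apply, Nat.cast_id]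
  exact b.finrank.trans Polynomial.natDegree_X_pow_sub_C

theorem isFinLocFreeOfDeg_proj : Mor2.IsFinLocFreeOfDeg D.d D.proj :=
  ⟨⟨inferInstance, inferInstance, inferInstance⟩, D.finrank_proj⟩

/-- Elements of the algebra as functions on the cover. -/
def theta (U : X.Opens) : D.sub U →+* Γ(D.cover, D.proj ⁻¹ᵁ U) := ((inv D.alg.gammaMap).app (op U)).hom

lemma theta_res {U V : X.Opens} (h : V ≤ U) (a : D.sub U) :
    resO D.cover (D.proj.preimage_mono h) (D.theta U a) = D.theta V (D.subRes h a) :=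
  (congr($((inv D.alg.gammaMap).naturality (homOfLE h).op) a)).symm

lemma theta_const {U : X.Opens} (c : Γ(X, U)) : D.theta U (D.const U c) = D.proj.app U c := by
  have h : D.alg.str ≫ inv D.alg.gammaMap = D.alg.π.c := by
    rw [IsIso.comp_inv_eq]
    exact D.alg.π_c_gammaMap.symm
  exact congr(($h).app (op U) c)

/-- The inverse of the local root. -/
def Tinv (x : X) : D.Ext := D.T x ^ (D.d - 1) * algebraMap X.functionField D.Ext (gη (D.gen_mem x) (D.v x))

lemma T_mul_Tinv (x : X) : D.T x * D.Tinv x = 1 := by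
  rw [Tinv, ← mul_assoc, ← pow_succ', Nat.sub_add_cancel D.hd, T_pow_d, ← map_mul, ← map_mul, vinv,
    IsUnit.val_inv_mul, map_one, map_one]

lemma Tinv_mem_S {x y : X} (h : y ∈ D.W x) : D.Tinv x ∈ D.S y :=
  mul_mem (pow_mem (D.T_mem_S h) _) (D.const_mem_S (gη_mem_reg h (D.v x)))

lemma Tinv_trans (x y : X) :
    D.Tinv x * algebraMap X.functionField D.Ext
      (gη (U := D.W x ⊓ D.W y) ⟨D.gen_mem x, D.gen_mem y⟩ (D.trans x y)) = D.Tinv y := by
  let c := algebraMap X.functionField D.Ext (gη (U := D.W x ⊓ D.W y) ⟨D.gen_mem x, D.gen_mem y⟩ (D.trans x y))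
  calc D.Tinv x * c = D.Tinv x * c * (D.T y * D.Tinv y) := by rw [T_mul_Tinv, mul_one]
    _ = D.Tinv x * (c * D.T y) * D.Tinv y := by ring
    _ = D.T x * D.Tinv x * D.Tinv y := by rw [← D.T_trans x y]; ring
    _ = D.Tinv y := by rw [T_mul_Tinv, one_mul]

/-- The pullback is trivial. -/
theorem nonempty_pullback_iso :
    Nonempty ((Scheme.Modules.pullback D.proj).obj D.L ≅ Coh.structureModule D.cover) := by
  let N := (Scheme.Modules.pullback D.proj).obj D.L
  let τ : ∀ x : X, Γ(D.cover, D.proj ⁻¹ᵁ D.W x) := fun x =>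
    D.theta (D.W x) (D.mkElem (D.W x) (D.Tinv x) fun _ h => D.Tinv_mem_S h)
  have hτ : ∀ x, IsUnit (τ x) := fun x => by
    refine IsUnit.map (D.theta (D.W x)) ?_
    refine IsUnit.of_mul_eq_one_right (D.mkElem (D.W x) (D.T x) fun _ h => D.T_mem_S h) ?_
    exact Subtype.ext (funext fun _ => D.T_mul_Tinv x)
  refine nonempty_iso_of_local_gens (fun x : X => D.proj ⁻¹ᵁ D.W x) (fun z => ⟨D.proj z, D.mem_W _⟩)
    (fun x => τ x • ProjMor.eta D.proj D.L (D.W x) (D.e x))
    (fun x => isGen_unit_smul (isGen_eta D.proj D.hL (D.isGen_e x)) (hτ x)) fun x y => ?_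
  let O := D.W x ⊓ D.W y
  change res N (D.proj.preimage_mono (inf_le_left : O ≤ D.W x)) _ = res N (D.proj.preimage_mono (inf_le_right : O ≤ D.W y)) _
  rw [res_smul, res_smul, ProjMor.eta_res D.proj D.L (inf_le_left : O ≤ D.W x),
    ProjMor.eta_res D.proj D.L (inf_le_right : O ≤ D.W y), D.trans_spec x y, ProjMor.eta_smul, smul_smul]
  refine congrArg (· • ProjMor.eta D.proj D.L O (res D.L inf_le_right (D.e y))) ?_
  rw [D.theta_res (inf_le_left : O ≤ D.W x), D.theta_res (inf_le_right : O ≤ D.W y), ← D.theta_const, ← map_mul]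
  refine congrArg (D.theta O) (Subtype.ext (funext fun z => ?_))
  change D.Tinv x * algebraMap X.functionField D.Ext (gη (generic_mem z.2) (D.trans x y)) = D.Tinv y
  exact D.Tinv_trans x y

/-- A power of `L` from a coordinate of a global element. -/
theorem repr_eq_zero (hfield : IsField (Γ(X, ⊤) : Type u))
    (hmin : ∀ i : ℕ, 0 < i → i < D.d → IsEmpty (CohB1.tensorPow D.L i ≅ Coh.structureModule X))
    {a : D.Ext} (ha : ∀ y, a ∈ D.S y) (i : Fin D.d) (hi : (i : ℕ) ≠ 0) : D.basis.repr a i = 0 := by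
  by_contra hb
  let b := D.basis.repr a i
  have hex : ∀ x : X, ∃ c : Γ(X, D.W x), gη (D.gen_mem x) c = b * (D.k x ^ (i : ℕ))⁻¹ := fun x =>
    exists_section (D.gen_mem x) fun y hy => (D.mem_S_iff_chart hy a).1 (ha y) i
  choose c hc using hex
  let u₀ := gη (D.gen_mem (genericPoint X)) (D.v (genericPoint X))
  have hu₀ : u₀ ≠ 0 := ((D.isUnit_v _).map (gη _)).ne_zero
  let q := b ^ D.d * (u₀ ^ (i : ℕ))⁻¹
  have hq : ∀ x, gη (D.gen_mem x) (c x ^ D.d * D.vinv x ^ (i : ℕ)) = q := fun x => by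
    have h1 : gη (D.gen_mem x) (D.v x) * gη (D.gen_mem x) (D.vinv x) = 1 := by
      rw [← map_mul, vinv, IsUnit.mul_val_inv, map_one]
    rw [map_mul, map_pow, map_pow, hc, eq_inv_of_mul_eq_one_right h1, mul_pow, inv_pow, inv_pow, ← pow_mul,
      mul_comm (i : ℕ), pow_mul, mul_assoc, ← mul_inv, ← mul_pow,
      mul_comm (D.k x ^ D.d), D.v_k x]
  obtain ⟨z, hz⟩ := exists_section (U := (⊤ : X.Opens)) trivial (b := q) fun y _ =>
    hq y ▸ gη_mem_reg (D.mem_W y) _
  have hz0 : z ≠ 0 := fun h => by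
    rw [h, map_zero] at hz
    exact mul_ne_zero (pow_ne_zero _ hb) (inv_ne_zero (pow_ne_zero _ hu₀)) hz.symm
  have hzu : IsUnit z := by
    obtain ⟨w, hw⟩ := hfield.mul_inv_cancel hz0
    exact IsUnit.of_mul_eq_one w hw
  have hcu : ∀ x, IsUnit (c x) := fun x => by
    have h : c x ^ D.d * D.vinv x ^ (i : ℕ) = resO X le_top z := gη_injective (D.gen_mem x) (by
      rw [hq, gη_res, hz])
    exact (isUnit_pow_iff D.hd.ne').1 (isUnit_of_mul_isUnit_left (h ▸ hzu.map _))
  refine (hmin i (Nat.pos_of_ne_zero hi) i.2).false (nonempty_iso_of_local_gens D.W (fun x => ⟨x, D.mem_W x⟩)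
    (fun x => c x • pw (D.e x) i) (fun x => isGen_unit_smul (isGen_pw (D.isGen_e x) i) (hcu x)) fun x y => ?_).some
  let O := D.W x ⊓ D.W y
  rw [res_smul, res_smul, res_pw (inf_le_left : O ≤ D.W x), D.trans_spec x y, pw_smul, smul_smul,
    ← res_pw (inf_le_right : O ≤ D.W y)]
  refine congrArg (fun r : Γ(X, O) => r • res _ inf_le_right (pw (D.e y) i)) ?_
  refine gη_injective (⟨D.gen_mem x, D.gen_mem y⟩ : genericPoint X ∈ O) ?_
  rw [map_mul, map_pow, gη_res, gη_res, hc, hc, ← D.k_trans x y, mul_pow, mul_inv, mul_assoc,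
    mul_right_comm _ _ (gη _ (D.trans x y) ^ (i : ℕ)),
    inv_mul_cancel₀ (pow_ne_zero _ ((D.isUnit_trans x y).map (gη _)).ne_zero), one_mul]

instance : Nontrivial D.Ext := AdjoinRoot.nontrivial _ (by
  rw [Polynomial.degree_X_pow_sub_C D.hd]; exact_mod_cast D.hd.ne')

/-- The cover is connected. -/
theorem connectedSpace (hfield : IsField (Γ(X, ⊤) : Type u))
    (hmin : ∀ i : ℕ, 0 < i → i < D.d → IsEmpty (CohB1.tensorPow D.L i ≅ Coh.structureModule X)) :
    ConnectedSpace D.cover := by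
  haveI : Surjective D.proj := by
    rw [← Scheme.Hom.one_le_finrank_iff_surjective]
    intro y
    rw [Pi.one_apply, D.finrank_proj]
    exact D.hd
  obtain ⟨z₀, -⟩ := D.proj.surjective (genericPoint X)
  haveI : Nonempty D.cover := ⟨z₀⟩
  refine connectedSpace_iff_clopen.mpr ⟨inferInstance, fun s hs => ?_⟩
  obtain ⟨e, he, rfl⟩ := FinFibImage.exists_idem_of_isClopen s hs
  suffices h : e = 0 ∨ e = 1 by
    rcases h with rfl | rfl
    · exact Or.inl (by rw [Scheme.basicOpen_zero]; rfl)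
    · exact Or.inr (by rw [Scheme.basicOpen_of_isUnit _ isUnit_one]; rfl)
  have hbij : Function.Bijective (D.theta ⊤) := ConcreteCategory.bijective_of_isIso ((inv D.alg.gammaMap).app (op ⊤))
  obtain ⟨α, rfl⟩ := hbij.2 e
  let a := α.1 ⟨genericPoint X, trivial⟩
  have ha : ∀ y, a ∈ D.S y := fun y => by
    rw [show a = α.1 ⟨y, trivial⟩ from α.2.1 _ _]; exact α.2.2 ⟨y, trivial⟩
  let i₀ : Fin D.d := ⟨0, D.hd⟩
  obtain ⟨z, hz⟩ := exists_section (U := (⊤ : X.Opens)) trivial (b := D.basis.repr a i₀) fun y _ => by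
    have := (D.mem_S_iff y a).1 (ha y) i₀
    rwa [pow_zero, inv_one, mul_one] at this
  have hα : α = D.const ⊤ z := by
    refine Subtype.ext (funext fun y => ?_)
    rw [α.2.1 y ⟨genericPoint X, trivial⟩]
    change a = algebraMap X.functionField D.Ext (gη _ z)
    rw [hz]
    conv_lhs => rw [D.eq_sum_T (genericPoint X) a]
    rw [Finset.sum_eq_single i₀ (fun i _ hne => by
      rw [D.repr_eq_zero hfield hmin ha i (fun h => hne (Fin.ext h)), zero_mul, zero_smul])
      (fun h => absurd (Finset.mem_univ _) h), pow_zero, pow_zero, inv_one, mul_one,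
      Algebra.algebraMap_eq_smul_one]
  have hid : IsIdempotentElem z := by
    have h1 : IsIdempotentElem α := hbij.1 (by rw [map_mul]; exact he)
    have h2 := congrArg (fun β : D.sub ⊤ => β.1 ⟨genericPoint X, trivial⟩) h1
    rw [hα] at h2
    refine gη_injective (U := (⊤ : X.Opens)) trivial ((algebraMap X.functionField D.Ext).injective ?_)
    rw [map_mul, map_mul]
    exact h2
  letI := hfield.toField
  rcases IsIdempotentElem.iff_eq_zero_or_one.1 hid with h | h
  · exact Or.inl (by rw [hα, h, map_zero, map_zero])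
  · exact Or.inr (by rw [hα, h, map_one, map_one])

end RootData

end Groth.Agent.W7Root
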