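import Groth.Agent.W7Root.Coef
import Groth.Prelude.Def_RelSpec

/-!
The quasi-coherent algebra of a cyclic cover.
-/

set_option autoImplicit false
set_option backward.isDefEq.respectTransparency false
set_option backward.isDefEq.respectTransparency.types false
set_option linter.style.haveILetI false
set_option maxHeartbeats 1000000

universe u

open CategoryTheory CategoryTheory.Limits AlgebraicGeometry TopologicalSpace Opposite Polynomial
open Groth.Agent.QC (res resO res_res res_self res_smul resO_resO resO_self app_res section_eq_of_locally)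

noncomputable section

namespace Groth.Agent.W7Root

variable {X : Scheme.{u}} [IsIntegral X] (D : RootData X)

namespace RootData

attribute [local irreducible] RootData.S RootData.basis

/-- Constant functions with values in the local algebras. -/
def sub (U : X.Opens) : Subring (↥U → D.Ext) where
  carrier := {h | (∀ y z, h y = h z) ∧ ∀ y : ↥U, h y ∈ D.S (y : X)}
  mul_mem' hp hq := ⟨fun y z => by simp [hp.1 y z, hq.1 y z], fun y => mul_mem (hp.2 y) (hq.2 y)⟩
  one_mem' := ⟨fun _ _ => rfl, fun _ => one_mem _⟩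
  add_mem' hp hq := ⟨fun y z => by simp [hp.1 y z, hq.1 y z], fun y => add_mem (hp.2 y) (hq.2 y)⟩
  zero_mem' := ⟨fun _ _ => rfl, fun _ => zero_mem _⟩
  neg_mem' hp := ⟨fun y z => by simp [hp.1 y z], fun y => neg_mem (hp.2 y)⟩

/-- Restriction. -/
def subRes {U V : X.Opens} (h : V ≤ U) : D.sub U →+* D.sub V where
  toFun a := ⟨fun y => a.1 ⟨y.1, h y.2⟩, fun y z => a.2.1 ⟨y.1, h y.2⟩ ⟨z.1, h z.2⟩, fun y => a.2.2 ⟨y.1, h y.2⟩⟩
  map_one' := rfl
  map_mul' _ _ := rfl
  map_zero' := rfl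
  map_add' _ _ := rfl

/-- The presheaf of rings. -/
def psh : TopCat.Presheaf CommRingCat.{u} X.carrier where
  obj U := CommRingCat.of (D.sub U.unop)
  map i := CommRingCat.ofHom (D.subRes i.unop.le)
  map_id _ := rfl
  map_comp _ _ := rfl

theorem isSheaf_psh : D.psh.IsSheaf := by
  rw [TopCat.Presheaf.isSheaf_iff_isSheafUniqueGluing]
  intro ι U sf hsf
  have hval : ∀ (i j : ι) (y : X) (hi : y ∈ U i) (hj : y ∈ U j),
      (show D.sub (U i) from sf i).1 ⟨y, hi⟩ = (show D.sub (U j) from sf j).1 ⟨y, hj⟩ := fun i j y hi hj =>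
    congrFun (congrArg Subtype.val (hsf i j)) ⟨y, hi, hj⟩
  choose idx hidx using fun y : (iSup U : X.Opens) => Opens.mem_iSup.1 y.2
  let s : ↥(iSup U : X.Opens) → D.Ext := fun y =>
    (show D.sub (U (idx y)) from sf (idx y)).1 ⟨y.1, hidx y⟩
  have hs : s ∈ D.sub (iSup U) := by
    refine ⟨fun y z => ?_, fun y => (show D.sub (U (idx y)) from sf (idx y)).2.2 ⟨y.1, hidx y⟩⟩
    have hy := generic_mem (hidx y)
    have hz := generic_mem (hidx z)
    exact ((show D.sub (U (idx y)) from sf (idx y)).2.1 ⟨y.1, hidx y⟩ ⟨_, hy⟩).trans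
      ((hval _ _ _ hy hz).trans ((show D.sub (U (idx z)) from sf (idx z)).2.1 ⟨_, hz⟩ ⟨z.1, hidx z⟩))
  refine ⟨⟨s, hs⟩, fun i => Subtype.ext (funext fun y => hval _ _ y.1 _ y.2), fun t ht => ?_⟩
  refine Subtype.ext (funext fun y => ?_)
  exact congrFun (congrArg Subtype.val (ht (idx y))) ⟨y.1, hidx y⟩

/-- Constants. -/
def const (U : X.Opens) : Γ(X, U) →+* D.sub U where
  toFun c := ⟨fun y => algebraMap X.functionField D.Ext (gη (generic_mem y.2) c),
    fun _ _ => rfl, fun y => D.const_mem_S (gη_mem_reg y.2 c)⟩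
  map_one' := Subtype.ext (funext fun y => by simp)
  map_mul' a b := Subtype.ext (funext fun y => by simp)
  map_zero' := Subtype.ext (funext fun y => by simp)
  map_add' a b := Subtype.ext (funext fun y => by simp)

/-- The structure map. -/
def str : X.presheaf ⟶ D.psh where
  app U := CommRingCat.ofHom (D.const U.unop)
  naturality U V i := CommRingCat.hom_ext (RingHom.ext fun c => Subtype.ext (funext fun y =>
    congrArg (algebraMap X.functionField D.Ext) (gη_res i.unop.le (generic_mem y.2) c)))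

/-- A global element of the cover algebra over `U`. -/
def mkElem (U : X.Opens) (a : D.Ext) (h : ∀ y ∈ U, a ∈ D.S y) : D.sub U :=
  ⟨fun _ => a, fun _ _ => rfl, fun y => h y.1 y.2⟩

/-- Finitely many affine charts cover an affine open. -/
theorem exists_charts {U : X.Opens} (hU : IsAffineOpen U) :
    ∃ (F : Finset X) (V : X → X.Opens), (∀ x, IsAffineOpen (V x)) ∧ (∀ x ∈ F, V x ≤ U ⊓ D.W x) ∧
      (∀ x ∈ F, x ∈ V x) ∧ ∀ y ∈ U, ∃ x ∈ F, y ∈ V x := by
  classical
  choose V hV hxV hle using fun x : U => exists_isAffineOpen_mem_and_subset (X := X) (x := (x : X))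
    (U := U ⊓ D.W x) ⟨x.2, D.mem_W x⟩
  obtain ⟨F, hF⟩ := hU.isCompact.elim_finite_subcover (fun x : U => (V x : Set X)) (fun x => (V x).2)
    fun x hx => Set.mem_iUnion.2 ⟨⟨x, hx⟩, hxV ⟨x, hx⟩⟩
  let V' : X → X.Opens := fun x => if h : x ∈ U then V ⟨x, h⟩ else ⊥
  refine ⟨F.map ⟨Subtype.val, Subtype.val_injective⟩, V', fun x => ?_, ?_, ?_, fun y hy => ?_⟩
  · by_cases h : x ∈ U
    · simp only [V', dif_pos h]; exact hV _
    · simp only [V', dif_neg h]; exact isAffineOpen_bot X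
  · rintro _ hx
    obtain ⟨⟨x, hxU⟩, -, rfl⟩ := Finset.mem_map.1 hx
    simp only [Function.Embedding.coeFn_mk, V', dif_pos hxU]
    exact fun z hz => hle _ hz
  · rintro _ hx
    obtain ⟨⟨x, hxU⟩, -, rfl⟩ := Finset.mem_map.1 hx
    simp only [Function.Embedding.coeFn_mk, V', dif_pos hxU]
    exact hxV _
  · obtain ⟨⟨x, hxU⟩, hx, hyx⟩ := Set.mem_iUnion₂.1 (hF hy)
    exact ⟨x, Finset.mem_map.2 ⟨⟨x, hxU⟩, hx, rfl⟩, by simp only [V', dif_pos hxU]; exact hyx⟩

/-- A denominator power clears an element over an affine open. -/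
theorem exists_pow_mul_S {U : X.Opens} (hU : IsAffineOpen U) (r : Γ(X, U)) (hη : genericPoint X ∈ U) (a : D.Ext)
    (ha : ∀ y ∈ X.basicOpen r, a ∈ D.S y) :
    ∃ n : ℕ, ∀ y ∈ U, algebraMap X.functionField D.Ext (gη hη r ^ n) * a ∈ D.S y := by
  classical
  obtain ⟨F, V, hV, hle, hxV, hcov⟩ := D.exists_charts hU
  have h : ∀ (x : X) (i : Fin D.d), ∃ n : ℕ, x ∈ F → ∀ m, n ≤ m → ∀ y ∈ V x,
      gη hη r ^ m * (D.basis.repr a i * (D.k x ^ (i : ℕ))⁻¹) ∈ Reg y := by
    intro x i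
    by_cases hx : x ∈ F
    · have hVU : V x ≤ U := (hle x hx).trans inf_le_left
      have hηV : genericPoint X ∈ V x := generic_mem (hxV x hx)
      obtain ⟨n, hn⟩ := exists_pow_mul_mem (hV x) (resO X hVU r) hηV
        (b := D.basis.repr a i * (D.k x ^ (i : ℕ))⁻¹) fun y hy => by
          have hy' : y ∈ V x ⊓ X.basicOpen r := (Scheme.basicOpen_res X r (homOfLE hVU).op).le hy
          exact (D.mem_S_iff_chart ((hle x hx) hy'.1).2 a).1 (ha y hy'.2) i
      refine ⟨n, fun _ m hm y hy => ?_⟩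
      have := hn m hm y hy
      rwa [gη_res] at this
    · exact ⟨0, fun h => absurd h hx⟩
  choose n hn using h
  refine ⟨(F ×ˢ (Finset.univ : Finset (Fin D.d))).sup fun p => n p.1 p.2, fun y hy => ?_⟩
  obtain ⟨x, hx, hyx⟩ := hcov y hy
  rw [D.mem_S_iff_chart ((hle x hx) hyx).2]
  intro i
  rw [← Algebra.smul_def, map_smul, Finsupp.smul_apply, smul_eq_mul, mul_assoc]
  exact hn x i hx _ (Finset.le_sup (f := fun p : X × Fin D.d => n p.1 p.2)
    (Finset.mem_product.2 ⟨hx, Finset.mem_univ i⟩ : (x, i) ∈ F ×ˢ Finset.univ)) y hyx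

theorem isQC : RelSpec.IsQC D.psh D.str := by
  intro U hU r
  let V := X.basicOpen r
  letI inst : Algebra (D.psh.obj (op U)) (D.psh.obj (op V)) :=
    (D.psh.map (homOfLE (X.basicOpen_le r)).op).hom.toAlgebra
  have halg : ∀ a : D.sub U, algebraMap (D.psh.obj (op U)) (D.psh.obj (op V)) a = D.subRes (X.basicOpen_le r) a :=
    fun _ => rfl
  have hrV : ∀ (n : ℕ) (y : ↥V), (D.subRes (X.basicOpen_le r) (D.const U r ^ n)).1 y =
      algebraMap X.functionField D.Ext (gη (generic_mem (X.basicOpen_le r y.2)) r ^ n) := fun n y => by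
    rw [map_pow, map_pow]; rfl
  refine ⟨⟨?_, ?_, ?_⟩⟩
  · rintro ⟨_, n, rfl⟩
    show IsUnit (algebraMap (D.psh.obj (op U)) (D.psh.obj (op V)) ((D.str.app (op U)).hom r ^ n))
    rw [map_pow]
    refine IsUnit.pow n ?_
    change IsUnit (D.subRes (X.basicOpen_le r) (D.const U r))
    rw [show D.subRes (X.basicOpen_le r) (D.const U r) = D.const V (resO X (X.basicOpen_le r) r) from
      Subtype.ext (funext fun y => (congrArg (algebraMap X.functionField D.Ext)
        (gη_res (X.basicOpen_le r) (generic_mem y.2) r)).symm)]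
    exact (RingedSpace.isUnit_res_basicOpen X.toLocallyRingedSpace.toRingedSpace r).map _
  · intro (b : D.sub V)
    rcases Set.eq_empty_or_nonempty (V : Set X) with he | ⟨y₀, hy₀⟩
    · refine ⟨⟨0, 1⟩, Subtype.ext (funext fun y => absurd (show (y : X) ∈ (V : Set X) from y.2) (by rw [he]; exact Set.notMem_empty _))⟩
    · have hη : genericPoint X ∈ U := generic_mem (X.basicOpen_le r hy₀)
      obtain ⟨n, hn⟩ := D.exists_pow_mul_S hU r hη (b.1 ⟨y₀, hy₀⟩) fun y hy =>
        (b.2.1 ⟨y, hy⟩ ⟨y₀, hy₀⟩) ▸ b.2.2 ⟨y, hy⟩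
      refine ⟨⟨D.mkElem U _ hn, ⟨(D.str.app (op U)).hom r ^ n, n, rfl⟩⟩, Subtype.ext (funext fun y => ?_)⟩
      change b.1 y * (D.subRes (X.basicOpen_le r) (D.const U r ^ n)).1 y =
        algebraMap X.functionField D.Ext (gη hη r ^ n) * b.1 ⟨y₀, hy₀⟩
      rw [hrV, b.2.1 y ⟨y₀, hy₀⟩, mul_comm]
  · intro (a : D.sub U) (a' : D.sub U) haa'
    rcases Set.eq_empty_or_nonempty (V : Set X) with he | ⟨y₀, hy₀⟩
    · refine ⟨⟨_, 1, rfl⟩, ?_⟩
      have hr : r = 0 := (basicOpen_eq_bot_iff r).1 (show V = ⊥ from SetLike.coe_injective (he.trans Opens.coe_bot.symm))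
      simp [hr]
    · refine ⟨⟨_, 0, rfl⟩, ?_⟩
      refine congrArg (HMul.hMul _) ?_
      refine Subtype.ext (funext fun y => ?_)
      rw [a.2.1 y ⟨y₀, X.basicOpen_le r hy₀⟩, a'.2.1 y ⟨y₀, X.basicOpen_le r hy₀⟩]
      exact congrFun (congrArg Subtype.val haa') ⟨y₀, hy₀⟩

/-- The algebra. -/
def alg : RelSpec.QCAlg X := ⟨D.psh, D.isSheaf_psh, D.str, D.isQC⟩

end RootData

end Groth.Agent.W7Root
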