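import Groth.Agent.TMul.Assoc
import Groth.Agent.TMul.Pullback
import Groth.Agent.SymAlg.PullBC
import Groth.Agent.ProjMor.PullSec
import Groth.Agent.W7See.SubLT
import Mathlib

/-!
Roots of trivialisations of tensor powers of invertible modules.
-/

set_option autoImplicit false
set_option backward.isDefEq.respectTransparency false
set_option backward.isDefEq.respectTransparency.types false
set_option linter.style.haveILetI false
set_option maxHeartbeats 2000000

universe u

open CategoryTheory CategoryTheory.Limits AlgebraicGeometry TopologicalSpace Opposite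
open Groth.Agent.QC (res resO res_res res_self res_smul resO_resO resO_self app_res section_eq_of_locally abSheaf)
open TMul (IsGen pw pw_smul res_pw isGen_pw)

noncomputable section

namespace Groth.Agent.W7Root

variable {X : Scheme.{u}} {M : X.Modules}

lemma res_bij {U : X.Opens} {e : Γ(M, U)} (he : IsGen e) {V : X.Opens} (h : V ≤ U) :
    Function.Bijective fun c : Γ(X, V) => c • res M h e := he V h

lemma exists_coeff {U : X.Opens} {e : Γ(M, U)} (he : IsGen e) {V : X.Opens} (h : V ≤ U) (t : Γ(M, V)) :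
    ∃ c : Γ(X, V), t = c • res M h e := by
  obtain ⟨c, hc⟩ := (he V h).2 t
  exact ⟨c, hc.symm⟩

/-- Two generators differ by a unit. -/
lemma isUnit_coeff {U : X.Opens} {e t : Γ(M, U)} (he : IsGen e) (ht : IsGen t) (c : Γ(X, U)) (h : t = c • e) :
    IsUnit c := by
  obtain ⟨d, hd⟩ := exists_coeff ht le_rfl e
  rw [res_self] at hd
  refine IsUnit.of_mul_eq_one_right d ((he U le_rfl).1 ?_)
  change (d * c) • res M le_rfl e = (1 : Γ(X, U)) • res M le_rfl e
  rw [res_self, mul_smul, ← h, one_smul, ← hd]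

/-- A unit multiple of a generator generates. -/
lemma isGen_unit_smul {U : X.Opens} {e : Γ(M, U)} (he : IsGen e) {c : Γ(X, U)} (hc : IsUnit c) :
    IsGen (c • e) := fun V hV => by
  have h : (fun d : Γ(X, V) => d • res M hV (c • e)) =
      (fun d : Γ(X, V) => d • res M hV e) ∘ fun d => d * resO X hV c := by
    funext d
    rw [Function.comp_apply, res_smul, smul_smul]
  rw [h]
  exact (he V hV).comp (hc.map (resO X hV)).unit.mulRight.bijective

/-- The unit section of the structure module. -/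
lemma isGen_one : IsGen (N := Coh.structureModule X) (U := (⊤ : X.Opens)) (show Γ(Coh.structureModule X, ⊤) from (1 : Γ(X, ⊤))) :=
  fun V hV => by
    have : (fun c : Γ(X, V) => c • res (Coh.structureModule X) hV (show Γ(Coh.structureModule X, ⊤) from (1 : Γ(X, ⊤)))) =
        id := by
      funext c
      change HMul.hMul (α := Γ(X, V)) (β := Γ(X, V)) (γ := Γ(X, V)) c (resO X hV (1 : Γ(X, ⊤))) = c
      rw [map_one, mul_one]
    exact this ▸ Function.bijective_id

/-- Powers of the trivial module. -/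
theorem nonempty_pow_structure : ∀ n : ℕ,
    Nonempty (CohB1.tensorPow (Coh.structureModule X) n ≅ Coh.structureModule X)
  | 0 => ⟨Iso.refl _⟩
  | n + 1 => (nonempty_pow_structure n).map fun e =>
    PicGrp.tensorModIso e (Iso.refl _) ≪≫ TMul.leftUnitIso _

/-- A locally generating global section trivialises. -/
theorem nonempty_iso_of_global {t : Γ(M, (⊤ : X.Opens))} (ht : IsGen t) :
    Nonempty (M ≅ Coh.structureModule X) :=
  (InvGen.nonempty_iso (𝟙 X) M le_top t ht).map fun i => (Scheme.Modules.restrictFunctorId.app M).symm ≪≫ i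

/-- In reduced characteristic `p` the `p`-th power is injective. -/
lemma pow_injective {A : Type u} [CommRing A] [IsReduced A] {p : ℕ} [Fact p.Prime] [CharP A p] {a b : A}
    (h : a ^ p = b ^ p) : a = b :=
  sub_eq_zero.1 (IsReduced.eq_zero (a - b) ⟨p, by rw [sub_pow_char, h, sub_self]⟩)

variable {X' : Scheme.{u}} (f : X' ⟶ X)

/-- The pullback of a generator generates. -/
lemma isGen_eta (hM : PicF.IsInvertible M) {U : X.Opens} {e : Γ(M, U)} (he : IsGen e) :
    IsGen (ProjMor.eta f M U e) :=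
  SymAlg.isGen_pullθ f (Iso.refl ((Scheme.Modules.pullback f).obj M))
    (PicLoc.isInvertible_pullback f hM) (TMul.isQCoh_of_isInvertible hM) e he

/-- Over a cover trivialising `M` and with roots of units, local roots exist on the cover. -/
theorem exists_root_chart (hM : PicF.IsInvertible M) {p : ℕ} {s : Γ(CohB1.tensorPow M p, (⊤ : X.Opens))}
    (hs : IsGen s) {g : Γ((Scheme.Modules.pullback f).obj M, (⊤ : X'.Opens))} (hg : IsGen g)
    (hroot : ∀ u : Γ(X', ⊤), IsUnit u → ∃ v : Γ(X', ⊤), v ^ p = u)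
    {U : X.Opens} {e : Γ(M, U)} (he : IsGen e) :
    ∃ u : Γ(X, U), res _ le_top s = u • pw e p ∧ IsUnit u ∧ ∃ v : Γ(X', f ⁻¹ᵁ U), v ^ p = f.app U u := by
  classical
  let N := (Scheme.Modules.pullback f).obj M
  have hN : PicF.IsInvertible N := PicLoc.isInvertible_pullback f hM
  have chart : ∀ (V : X.Opens) (e : Γ(M, V)), IsGen e → ∃ (u : Γ(X, V)) (a : Γ(X', f ⁻¹ᵁ V)),
      res _ le_top s = u • pw e p ∧ IsUnit u ∧ ProjMor.eta f M V e = a • res N le_top g ∧ IsUnit a := by
    intro V e he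
    obtain ⟨u, hu⟩ := exists_coeff (isGen_pw he p) le_rfl (res (CohB1.tensorPow M p) (le_top : V ≤ ⊤) s)
    rw [res_self] at hu
    obtain ⟨a, ha⟩ := exists_coeff hg (le_top : f ⁻¹ᵁ V ≤ ⊤) (ProjMor.eta f M V e)
    exact ⟨u, a, hu, isUnit_coeff (isGen_pw he p) (hs.res le_top) u hu, ha,
      isUnit_coeff (hg.res le_top) (isGen_eta f hM he) a ha⟩
  choose W eW hxW heW using fun x : X => TMul.exists_isGen hM x
  -- the transition
  have trans : ∀ (V V' : X.Opens) (e : Γ(M, V)) (e' : Γ(M, V')), IsGen e → IsGen e' →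
      ∀ (u : Γ(X, V)) (a : Γ(X', f ⁻¹ᵁ V)) (u' : Γ(X, V')) (a' : Γ(X', f ⁻¹ᵁ V')),
      res _ le_top s = u • pw e p → ProjMor.eta f M V e = a • res N le_top g →
      res _ le_top s = u' • pw e' p → ProjMor.eta f M V' e' = a' • res N le_top g →
      resO X' (f.preimage_mono (inf_le_left : V ⊓ V' ≤ V)) (f.app V u * a ^ p) =
        resO X' (f.preimage_mono (inf_le_right : V ⊓ V' ≤ V')) (f.app V' u' * a' ^ p) := by
    intro V V' e e' he he' u a u' a' hu ha hu' ha'
    let O := V ⊓ V'
    obtain ⟨c, hc⟩ := exists_coeff he' (inf_le_right : O ≤ V') (res M (inf_le_left : O ≤ V) e)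
    have h1 : resO X (inf_le_left : O ≤ V) u * c ^ p = resO X (inf_le_right : O ≤ V') u' := by
      refine ((isGen_pw he' p) O inf_le_right).1 ?_
      change (_ * _) • res _ inf_le_right (pw e' p) = resO X inf_le_right u' • res _ inf_le_right (pw e' p)
      rw [mul_smul, res_pw (inf_le_right : O ≤ V'), ← pw_smul, ← hc, ← res_pw (inf_le_left : O ≤ V),
        ← res_smul _ (inf_le_left : O ≤ V), ← hu, ← res_pw (inf_le_right : O ≤ V'),
        ← res_smul _ (inf_le_right : O ≤ V'), ← hu', res_res, res_res]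
    have h2 : resO X' (f.preimage_mono (inf_le_left : O ≤ V)) a =
        f.app O c * resO X' (f.preimage_mono (inf_le_right : O ≤ V')) a' := by
      refine (hg (f ⁻¹ᵁ O) le_top).1 ?_
      change _ • res N le_top g = _ • res N le_top g
      have e1 := congrArg (res N (f.preimage_mono (inf_le_left : O ≤ V))) ha
      have e2 := congrArg (res N (f.preimage_mono (inf_le_right : O ≤ V'))) ha'
      rw [ProjMor.eta_res f M (inf_le_left : O ≤ V), res_smul, res_res] at e1
      rw [ProjMor.eta_res f M (inf_le_right : O ≤ V'), res_smul, res_res] at e2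
      rw [mul_smul, ← e2, ← e1, hc, ProjMor.eta_smul]
    have hnat : ∀ {A B : X.Opens} (h : B ≤ A) (c : Γ(X, A)),
        resO X' (f.preimage_mono h) (f.app A c) = f.app B (resO X h c) := fun h c =>
      (congr($(f.naturality (homOfLE h).op).hom c)).symm
    rw [map_mul, map_mul, map_pow, map_pow, hnat (inf_le_left : O ≤ V), hnat (inf_le_right : O ≤ V'), h2, mul_pow, ← h1, map_mul, map_pow]
    ring
  choose u a hu hu1 ha ha1 using fun x => chart (W x) (eW x) (heW x)
  obtain ⟨z, hz, -⟩ := X'.sheaf.existsUnique_gluing' (fun x : X => f ⁻¹ᵁ W x) ⊤ (fun x => homOfLE le_top)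
    (fun y _ => Opens.mem_iSup.2 ⟨f y, hxW (f y)⟩) (fun x => f.app (W x) (u x) * a x ^ p)
    (fun x x' => trans (W x) (W x') (eW x) (eW x') (heW x) (heW x') _ _ _ _ (hu x) (ha x) (hu x') (ha x'))
  have hz1 : ∀ x, resO X' (le_top : f ⁻¹ᵁ W x ≤ ⊤) z = f.app (W x) (u x) * a x ^ p := hz
  have hzu : IsUnit z := X'.toRingedSpace.isUnit_of_isUnit_germ ⊤ z fun y _ => by
    have hy : y ∈ f ⁻¹ᵁ W (f y) := hxW (f y)
    rw [← TopCat.Presheaf.germ_res_apply X'.presheaf (homOfLE (le_top : f ⁻¹ᵁ W (f y) ≤ ⊤)) y hy]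
    exact (hz1 (f y) ▸ (((hu1 (f y)).map (f.app _).hom).mul ((ha1 (f y)).pow p))).map _
  obtain ⟨r, hr⟩ := hroot z hzu
  obtain ⟨u₀, a₀, hu₀, hu₀1, ha₀, ha₀1⟩ := chart U e he
  have hr₀ : resO X' (le_top : f ⁻¹ᵁ U ≤ ⊤) z = f.app U u₀ * a₀ ^ p := by
    refine X'.sheaf.eq_of_locally_eq' (fun x : X => f ⁻¹ᵁ (U ⊓ W x)) (f ⁻¹ᵁ U)
      (fun x => homOfLE (f.preimage_mono inf_le_left))
      (fun y hy => Opens.mem_iSup.2 ⟨f y, hy, hxW (f y)⟩) _ _ fun x => ?_
    have h := trans U (W x) e (eW x) he (heW x) u₀ a₀ (u x) (a x) hu₀ ha₀ (hu x) (ha x)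
    rw [← hz1 x, resO_resO] at h
    exact (resO_resO _ _ z).trans h.symm
  refine ⟨u₀, hu₀, hu₀1, resO X' le_top r * (↑ha₀1.unit⁻¹ : Γ(X', f ⁻¹ᵁ U)), ?_⟩
  rw [mul_pow, ← map_pow, hr, hr₀, mul_assoc, ← mul_pow, IsUnit.mul_val_inv, one_pow, mul_one]

end Groth.Agent.W7Root
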