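import Groth.Agent.W7Root.Basic

/-!
Coordinates of a cyclic cover inside the extension of the function field.
-/

set_option autoImplicit false
set_option backward.isDefEq.respectTransparency false
set_option backward.isDefEq.respectTransparency.types false
set_option linter.style.haveILetI false
set_option maxHeartbeats 1000000

universe u

open CategoryTheory CategoryTheory.Limits AlgebraicGeometry TopologicalSpace Opposite Polynomial
open Groth.Agent.QC (res resO res_res res_self res_smul resO_resO resO_self app_res section_eq_of_locally)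
open TMul (IsGen pw pw_smul res_pw isGen_pw)

noncomputable section

namespace Groth.Agent.W7Root

/-- An invertible module with a trivialised power. -/
structure RootData (X : Scheme.{u}) where
  L : X.Modules
  hL : PicF.IsInvertible L
  d : ℕ
  hd : 0 < d
  s : Γ(CohB1.tensorPow L d, (⊤ : X.Opens))
  hs : IsGen s

/-- Elements generated by a root of `X ^ d - w`. -/
theorem exists_sum_of_mem_adjoin {R A : Type u} [CommRing R] [Nontrivial R] [CommRing A] [Algebra R A] {d : ℕ}
    (hd : 0 < d) (t : A) (w : R) (ht : t ^ d = algebraMap R A w) {a : A} (ha : a ∈ Algebra.adjoin R {t}) :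
    ∃ c : Fin d → R, a = ∑ j, c j • t ^ (j : ℕ) := by
  rw [Algebra.adjoin_singleton_eq_range_aeval] at ha
  obtain ⟨q, rfl⟩ := ha
  let g : R[X] := Polynomial.X ^ d - Polynomial.C w
  have hg : g.Monic := monic_X_pow_sub_C w hd.ne'
  have hg0 : Polynomial.aeval t g = 0 := by simp [g, ht]
  have hdeg : (q %ₘ g).natDegree < d := by
    have h1 : g.natDegree = d := natDegree_X_pow_sub_C
    have h2 := natDegree_modByMonic_lt q hg (fun h => by rw [h, natDegree_one] at h1; exact hd.ne h1)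
    rwa [h1] at h2
  refine ⟨fun j => (q %ₘ g).coeff j, ?_⟩
  change Polynomial.aeval t q = _
  rw [← aeval_modByMonic_eq_self_of_root hg0, aeval_eq_sum_range' hdeg,
    Fin.sum_univ_eq_sum_range (fun j => (q %ₘ g).coeff j • t ^ j)]

variable {X : Scheme.{u}} [IsIntegral X]

lemma generic_mem {U : X.Opens} {y : X} (h : y ∈ U) : genericPoint X ∈ U :=
  (genericPoint_specializes y).mem_open U.2 h

/-- The value in the function field. -/
def gη {U : X.Opens} (h : genericPoint X ∈ U) : Γ(X, U) →+* X.functionField :=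
  (X.presheaf.germ U (genericPoint X) h).hom

lemma gη_res {U V : X.Opens} (hVU : V ≤ U) (h : genericPoint X ∈ V) (c : Γ(X, U)) :
    gη h (resO X hVU c) = gη (hVU h) c :=
  TopCat.Presheaf.germ_res_apply X.presheaf (homOfLE hVU) _ h c

lemma gη_injective {U : X.Opens} (h : genericPoint X ∈ U) : Function.Injective (gη h) :=
  germ_injective_of_isIntegral X (genericPoint X) h

lemma algebraMap_germ {U : X.Opens} {y : X} (h : y ∈ U) (c : Γ(X, U)) :
    algebraMap (X.presheaf.stalk y) X.functionField ((X.presheaf.germ U y h).hom c) = gη (generic_mem h) c :=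
  haveI : Nonempty U := ⟨⟨y, h⟩⟩
  X.algebraMap_germ_eq_germToFunctionField h c

/-- The functions regular at a point. -/
def Reg (y : X) : Subring X.functionField := (algebraMap (X.presheaf.stalk y) X.functionField).range

lemma gη_mem_reg {U : X.Opens} {y : X} (h : y ∈ U) (c : Γ(X, U)) : gη (generic_mem h) c ∈ Reg y :=
  ⟨_, algebraMap_germ h c⟩

/-- A function regular on an open is a section there. -/
theorem exists_section {U : X.Opens} (hU : genericPoint X ∈ U) {b : X.functionField}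
    (hb : ∀ y ∈ U, b ∈ Reg y) : ∃ c : Γ(X, U), gη hU c = b := by
  have h : ∀ y : U, ∃ (V : X.Opens) (hV : V ≤ U) (hy : (y : X) ∈ V) (c : Γ(X, V)),
      gη (generic_mem hy) c = b := by
    rintro ⟨y, hy⟩
    obtain ⟨g, hg⟩ := hb y hy
    obtain ⟨W, hyW, c, rfl⟩ := X.presheaf.exists_germ_eq (x := y) g
    refine ⟨W ⊓ U, inf_le_right, ⟨hyW, hy⟩, resO X inf_le_left c, ?_⟩
    rw [gη_res, ← algebraMap_germ hyW, hg]
  choose V hV hy c hc using h
  obtain ⟨C, hC, -⟩ := X.sheaf.existsUnique_gluing' V U (fun y => homOfLE (hV y))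
    (fun y hy' => Opens.mem_iSup.2 ⟨⟨y, hy'⟩, hy ⟨y, hy'⟩⟩) c fun y y' => by
      change resO X (inf_le_left : V y ⊓ V y' ≤ V y) (c y) = resO X (inf_le_right : V y ⊓ V y' ≤ V y') (c y')
      refine gη_injective (⟨generic_mem (hy y), generic_mem (hy y')⟩ : genericPoint X ∈ V y ⊓ V y') ?_
      rw [gη_res, gη_res]
      exact (hc y).trans (hc y').symm
  refine ⟨C, ?_⟩
  let η : U := ⟨genericPoint X, hU⟩
  rw [← gη_res (hV η) (generic_mem (hy η)) C, show resO X (hV η) C = c η from hC η]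
  exact hc η

/-- Denominators are killed by a power. -/
theorem exists_pow_mul_mem {V : X.Opens} (hV : IsAffineOpen V) (r : Γ(X, V)) (hη : genericPoint X ∈ V)
    {b : X.functionField} (hb : ∀ y ∈ X.basicOpen r, b ∈ Reg y) :
    ∃ n : ℕ, ∀ m : ℕ, n ≤ m → ∀ y ∈ V, gη hη r ^ m * b ∈ Reg y := by
  let I : Ideal Γ(X, V) :=
    { carrier := {c | ∀ y ∈ V, gη hη c * b ∈ Reg y}
      add_mem' := fun {p q} hp hq y hy => by rw [map_add, add_mul]; exact add_mem (hp y hy) (hq y hy)
      zero_mem' := fun y _ => by rw [map_zero, zero_mul]; exact zero_mem _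
      smul_mem' := fun c p hp y hy => by
        rw [smul_eq_mul, map_mul, mul_assoc]
        exact mul_mem (gη_mem_reg hy c) (hp y hy) }
  have hr : r ∈ I.radical := by
    rw [Ideal.radical_eq_sInf, Ideal.mem_sInf]
    rintro q ⟨hIq, hq⟩
    by_contra hrq
    let p : PrimeSpectrum Γ(X, V) := ⟨q, hq⟩
    have hyV : hV.fromSpec p ∈ V := hV.range_fromSpec.subset ⟨p, rfl⟩
    have hyr : hV.fromSpec p ∈ X.basicOpen r := by
      change p ∈ hV.fromSpec ⁻¹ᵁ X.basicOpen r
      rw [hV.fromSpec_preimage_basicOpen]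
      exact hrq
    obtain ⟨g, hg⟩ := hb _ hyr
    letI : Algebra Γ(X, V) (X.presheaf.stalk (hV.fromSpec p)) :=
      (X.presheaf.germ V _ hyV).hom.toAlgebra
    haveI := hV.isLocalization_stalk ⟨_, hyV⟩
    obtain ⟨⟨e, f, hf⟩, hgef⟩ := IsLocalization.surj
      (hV.primeIdealOf ⟨_, hyV⟩).asIdeal.primeCompl g
    have hfI : f ∈ I := fun y hy => by
      have h1 := congrArg (algebraMap (X.presheaf.stalk (hV.fromSpec p)) X.functionField) hgef
      simp only [map_mul, RingHom.algebraMap_toAlgebra' ] at h1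
      rw [show gη hη f * b = gη hη e from ?_]
      · exact gη_mem_reg hy e
      · rw [← hg, ← algebraMap_germ hyV, ← algebraMap_germ hyV, mul_comm, ← map_mul]
        exact congrArg _ hgef
    have hpe : hV.primeIdealOf ⟨_, hyV⟩ = p :=
      hV.fromSpec.isOpenEmbedding.injective (hV.fromSpec_primeIdealOf ⟨_, hyV⟩)
    exact hf (by rw [hpe]; exact hIq hfI)
  obtain ⟨n, hn⟩ := hr
  refine ⟨n, fun m hm y hy => ?_⟩
  obtain ⟨j, rfl⟩ := Nat.exists_eq_add_of_le hm
  rw [pow_add, mul_comm (gη hη r ^ n), mul_assoc, ← map_pow]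
  exact mul_mem (gη_mem_reg hy _) (by rw [← map_pow]; exact hn y hy)

namespace RootData

variable (D : RootData X)

def W (x : X) : X.Opens := (TMul.exists_isGen D.hL x).choose
def e (x : X) : Γ(D.L, D.W x) := (TMul.exists_isGen D.hL x).choose_spec.choose
lemma mem_W (x : X) : x ∈ D.W x := (TMul.exists_isGen D.hL x).choose_spec.choose_spec.1
lemma isGen_e (x : X) : IsGen (D.e x) := (TMul.exists_isGen D.hL x).choose_spec.choose_spec.2
lemma gen_mem (x : X) : genericPoint X ∈ D.W x := generic_mem (D.mem_W x)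

/-- `s = u · e^d`. -/
def v (x : X) : Γ(X, D.W x) :=
  (exists_coeff (isGen_pw (D.isGen_e x) D.d) le_rfl (res (CohB1.tensorPow D.L D.d) le_top D.s)).choose

lemma v_spec (x : X) : res (CohB1.tensorPow D.L D.d) le_top D.s = D.v x • pw (D.e x) D.d := by
  have h := (exists_coeff (isGen_pw (D.isGen_e x) D.d) le_rfl
    (res (CohB1.tensorPow D.L D.d) (le_top : D.W x ≤ ⊤) D.s)).choose_spec
  exact h.trans (congrArg _ (res_self _ _ _))

lemma isUnit_v (x : X) : IsUnit (D.v x) :=
  isUnit_coeff (isGen_pw (D.isGen_e x) D.d) (D.hs.res le_top) _ (D.v_spec x)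

/-- Transition functions. -/
theorem exists_trans (x y : X) : ∃ c : Γ(X, D.W x ⊓ D.W y), IsUnit c ∧
    res D.L inf_le_left (D.e x) = c • res D.L inf_le_right (D.e y) ∧
    resO X inf_le_left (D.v x) * c ^ D.d = resO X inf_le_right (D.v y) := by
  obtain ⟨c, hc⟩ := exists_coeff (D.isGen_e y) (inf_le_right : D.W x ⊓ D.W y ≤ D.W y)
    (res D.L (inf_le_left : D.W x ⊓ D.W y ≤ D.W x) (D.e x))
  refine ⟨c, isUnit_coeff ((D.isGen_e y).res inf_le_right) ((D.isGen_e x).res inf_le_left) c hc, hc, ?_⟩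
  refine ((isGen_pw (D.isGen_e y) D.d) _ inf_le_right).1 ?_
  change (_ * _) • res _ inf_le_right (pw (D.e y) D.d) = _ • res _ inf_le_right (pw (D.e y) D.d)
  rw [mul_smul, res_pw (inf_le_right : D.W x ⊓ D.W y ≤ D.W y), ← pw_smul, ← hc,
    ← res_pw (inf_le_left : D.W x ⊓ D.W y ≤ D.W x), ← res_smul _ (inf_le_left : D.W x ⊓ D.W y ≤ D.W x),
    ← D.v_spec x, ← res_pw (inf_le_right : D.W x ⊓ D.W y ≤ D.W y),
    ← res_smul _ (inf_le_right : D.W x ⊓ D.W y ≤ D.W y), ← D.v_spec y, res_res, res_res]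

def trans (x y : X) : Γ(X, D.W x ⊓ D.W y) := (D.exists_trans x y).choose
lemma isUnit_trans (x y : X) : IsUnit (D.trans x y) := (D.exists_trans x y).choose_spec.1
lemma trans_spec (x y : X) : res D.L inf_le_left (D.e x) = D.trans x y • res D.L inf_le_right (D.e y) :=
  (D.exists_trans x y).choose_spec.2.1
lemma trans_v (x y : X) : resO X inf_le_left (D.v x) * D.trans x y ^ D.d = resO X inf_le_right (D.v y) :=
  (D.exists_trans x y).choose_spec.2.2

/-- The rational function `e_x / e_η`. -/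
def k (x : X) : X.functionField := gη (U := D.W x ⊓ D.W (genericPoint X))
  ⟨D.gen_mem x, D.gen_mem _⟩ (D.trans x (genericPoint X))

lemma k_ne_zero (x : X) : D.k x ≠ 0 := ((D.isUnit_trans x _).map (gη _)).ne_zero

lemma k_trans (x y : X) :
    gη (U := D.W x ⊓ D.W y) ⟨D.gen_mem x, D.gen_mem y⟩ (D.trans x y) * D.k y = D.k x := by
  let g := genericPoint X
  let O := D.W x ⊓ D.W y ⊓ D.W g
  have hO : genericPoint X ∈ O := ⟨⟨D.gen_mem x, D.gen_mem y⟩, D.gen_mem g⟩
  have h1 : O ≤ D.W x ⊓ D.W y := inf_le_left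
  have h2 : O ≤ D.W x ⊓ D.W g := inf_le_inf_right _ inf_le_left
  have h3 : O ≤ D.W y ⊓ D.W g := inf_le_inf_right _ inf_le_right
  have key : resO X h1 (D.trans x y) * resO X h3 (D.trans y g) = resO X h2 (D.trans x g) := by
    refine ((D.isGen_e g) O inf_le_right).1 ?_
    change (_ * _) • res D.L (inf_le_right : O ≤ D.W g) (D.e g) = _ • res D.L (inf_le_right : O ≤ D.W g) (D.e g)
    have a := congrArg (res D.L h1) (D.trans_spec x y)
    have b := congrArg (res D.L h3) (D.trans_spec y g)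
    have c := congrArg (res D.L h2) (D.trans_spec x g)
    simp only [res_smul, res_res] at a b c
    rw [mul_smul, ← b, ← a, ← c]
  have := congrArg (gη hO) key
  rw [map_mul, gη_res, gη_res, gη_res] at this
  exact this

lemma v_k (x : X) : gη (D.gen_mem x) (D.v x) * D.k x ^ D.d = gη (D.gen_mem _) (D.v (genericPoint X)) := by
  have h : genericPoint X ∈ D.W x ⊓ D.W (genericPoint X) := ⟨D.gen_mem x, D.gen_mem _⟩
  have := congrArg (gη h) (D.trans_v x (genericPoint X))
  rwa [map_mul, map_pow, gη_res, gη_res] at this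

/-- The constant `1 / u_η`. -/
def κ : X.functionField := (gη (D.gen_mem _) (D.v (genericPoint X)))⁻¹

/-- The extension of the function field. -/
abbrev Ext : Type u := AdjoinRoot ((Polynomial.X : X.functionField[X]) ^ D.d - Polynomial.C D.κ)

/-- The basis of powers of the root. -/
def basis : Module.Basis (Fin D.d) X.functionField D.Ext :=
  ((AdjoinRoot.powerBasis' (monic_X_pow_sub_C D.κ D.hd.ne')).basis).reindex
    (finCongr natDegree_X_pow_sub_C)

lemma basis_apply (i : Fin D.d) :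
    D.basis i = AdjoinRoot.root ((Polynomial.X : X.functionField[X]) ^ D.d - Polynomial.C D.κ) ^ (i : ℕ) := by
  rw [basis, Module.Basis.reindex_apply, PowerBasis.basis_eq_pow]
  rfl

lemma root_pow : AdjoinRoot.root ((Polynomial.X : X.functionField[X]) ^ D.d - Polynomial.C D.κ) ^ D.d =
    algebraMap X.functionField D.Ext D.κ := by
  have h := AdjoinRoot.eval₂_root ((Polynomial.X : X.functionField[X]) ^ D.d - Polynomial.C D.κ)
  rw [eval₂_sub, eval₂_X_pow, eval₂_C, sub_eq_zero] at h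
  exact h

/-- The local root. -/
def T (x : X) : D.Ext := D.k x • AdjoinRoot.root ((Polynomial.X : X.functionField[X]) ^ D.d - Polynomial.C D.κ)

lemma T_pow (x : X) (i : ℕ) : D.T x ^ i =
    D.k x ^ i • AdjoinRoot.root ((Polynomial.X : X.functionField[X]) ^ D.d - Polynomial.C D.κ) ^ i :=
  smul_pow _ _ _

lemma repr_T_pow (x : X) (c : Fin D.d → X.functionField) (i : Fin D.d) :
    D.basis.repr (∑ j, c j • D.T x ^ (j : ℕ)) i = c i * D.k x ^ (i : ℕ) := by
  simp only [T_pow, ← basis_apply, smul_smul]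
  exact D.basis.repr_sum_self (fun j => c j * D.k x ^ (j : ℕ)) ▸ rfl

lemma eq_sum_T (x : X) (a : D.Ext) :
    a = ∑ i : Fin D.d, (D.basis.repr a i * (D.k x ^ (i : ℕ))⁻¹) • D.T x ^ (i : ℕ) := by
  conv_lhs => rw [← D.basis.sum_repr a]
  refine Finset.sum_congr rfl fun i _ => ?_
  rw [T_pow, smul_smul, inv_mul_cancel_right₀ (pow_ne_zero _ (D.k_ne_zero x)), basis_apply]

/-- `T_x ^ d = 1 / u_x`, as a unit section. -/
def vinv (x : X) : Γ(X, D.W x) := ↑(D.isUnit_v x).unit⁻¹

lemma T_pow_d (x : X) :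
    D.T x ^ D.d = algebraMap X.functionField D.Ext (gη (D.gen_mem x) (D.vinv x)) := by
  rw [T_pow, root_pow, Algebra.algebraMap_eq_smul_one, smul_smul, ← Algebra.algebraMap_eq_smul_one]
  congr 1
  have h1 : gη (D.gen_mem x) (D.v x) * gη (D.gen_mem x) (D.vinv x) = 1 := by
    rw [← map_mul, vinv, IsUnit.mul_val_inv, map_one]
  have h2 := D.v_k x
  rw [κ, ← h2, mul_inv, ← mul_assoc, mul_comm (D.k x ^ D.d), mul_assoc,
    mul_inv_cancel₀ (pow_ne_zero _ (D.k_ne_zero x)), mul_one]
  exact inv_eq_of_mul_eq_one_right h1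

/-- The algebra at a point. -/
def S (y : X) : Subalgebra (X.presheaf.stalk y) D.Ext := Algebra.adjoin _ {D.T y}

lemma const_mem_S {y : X} {b : X.functionField} (h : b ∈ Reg y) : algebraMap X.functionField D.Ext b ∈ D.S y := by
  obtain ⟨g, rfl⟩ := h
  rw [← IsScalarTower.algebraMap_apply]
  exact Subalgebra.algebraMap_mem _ g

lemma self_mem_S (y : X) : D.T y ∈ D.S y := by
  unfold S
  exact Algebra.subset_adjoin (Set.mem_singleton _)

theorem mem_S_iff (y : X) (a : D.Ext) :
    a ∈ D.S y ↔ ∀ i : Fin D.d, D.basis.repr a i * (D.k y ^ (i : ℕ))⁻¹ ∈ Reg y := by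
  constructor
  · intro ha
    obtain ⟨w, hw⟩ := gη_mem_reg (D.mem_W y) (D.vinv y)
    obtain ⟨c, rfl⟩ := exists_sum_of_mem_adjoin D.hd (D.T y) w (by
      rw [T_pow_d, IsScalarTower.algebraMap_apply (X.presheaf.stalk y) X.functionField D.Ext, hw]) ha
    intro i
    have hsum : (∑ j : Fin D.d, c j • D.T y ^ (j : ℕ)) =
        ∑ j : Fin D.d, algebraMap (X.presheaf.stalk y) X.functionField (c j) • D.T y ^ (j : ℕ) :=
      Finset.sum_congr rfl fun j _ => (algebraMap_smul X.functionField (c j) (D.T y ^ (j : ℕ))).symm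
    rw [hsum, repr_T_pow, mul_inv_cancel_right₀ (pow_ne_zero _ (D.k_ne_zero y))]
    exact ⟨_, rfl⟩
  · intro h
    rw [D.eq_sum_T y a]
    refine Subalgebra.sum_mem _ fun i _ => ?_
    rw [Algebra.smul_def]
    exact mul_mem (D.const_mem_S (h i)) (pow_mem (D.self_mem_S y) _)

lemma reg_div_iff {x y : X} (h : y ∈ D.W x) (b : X.functionField) (i : ℕ) :
    b * (D.k y ^ i)⁻¹ ∈ Reg y ↔ b * (D.k x ^ i)⁻¹ ∈ Reg y := by
  have hy : y ∈ D.W x ⊓ D.W y := ⟨h, D.mem_W y⟩
  have hc := gη_mem_reg hy (D.trans x y)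
  have hc' : (gη (generic_mem hy) (D.trans x y))⁻¹ ∈ Reg y := by
    obtain ⟨c', hc'⟩ := (D.isUnit_trans x y).exists_right_inv
    rw [inv_eq_of_mul_eq_one_right (by rw [← map_mul, hc', map_one] :
      gη (generic_mem hy) (D.trans x y) * gη (generic_mem hy) c' = 1)]
    exact gη_mem_reg hy c'
  have hk : gη (generic_mem hy) (D.trans x y) * D.k y = D.k x := D.k_trans x y
  have hne : gη (generic_mem hy) (D.trans x y) ≠ 0 := fun h0 => D.k_ne_zero x (by rw [← hk, h0, zero_mul])
  constructor <;> intro hb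
  · have := mul_mem hb (pow_mem hc' i)
    rwa [mul_assoc, inv_pow, ← mul_inv, ← mul_pow, mul_comm (D.k y), hk] at this
  · have := mul_mem hb (pow_mem hc i)
    rw [← hk, mul_pow, mul_inv, mul_assoc, mul_right_comm _ _ (gη _ (D.trans x y) ^ i),
      inv_mul_cancel₀ (pow_ne_zero _ hne), one_mul] at this
    exact this

theorem mem_S_iff_chart {x y : X} (h : y ∈ D.W x) (a : D.Ext) :
    a ∈ D.S y ↔ ∀ i : Fin D.d, D.basis.repr a i * (D.k x ^ (i : ℕ))⁻¹ ∈ Reg y :=
  (D.mem_S_iff y a).trans (forall_congr' fun _ => D.reg_div_iff h _ _)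

lemma T_mem_S {x y : X} (h : y ∈ D.W x) : D.T x ∈ D.S y := by
  have : D.T x = algebraMap X.functionField D.Ext (gη (U := D.W x ⊓ D.W y) ⟨D.gen_mem x, D.gen_mem y⟩ (D.trans x y)) *
      D.T y := by
    rw [T, T, ← Algebra.smul_def, smul_smul, D.k_trans x y]
  rw [this]
  exact mul_mem (D.const_mem_S (gη_mem_reg (⟨h, D.mem_W y⟩ : y ∈ D.W x ⊓ D.W y) _)) (D.self_mem_S y)

lemma T_trans (x y : X) :
    D.T x = algebraMap X.functionField D.Ext (gη (U := D.W x ⊓ D.W y) ⟨D.gen_mem x, D.gen_mem y⟩ (D.trans x y)) *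
      D.T y := by
  rw [T, T, ← Algebra.smul_def, smul_smul, D.k_trans x y]

end RootData

end Groth.Agent.W7Root
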